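import Groth.Agent.MiscFlat6.ResolutionProp
import Groth.Agent.MiscFlat6.AmpleFamily
import Groth.Agent.QCohLib.Bound
import Groth.Agent.QCohLib.Coherent
import Groth.Agent.AtlasCohLib.FiniteCoh
import Groth.Agent.PerfLib.Coherent

/-!
# Cohomological dimension is detected by locally free modules, given the resolution property
-/

set_option autoImplicit false
set_option linter.style.haveILetI false
universe u

open CategoryTheory CategoryTheory.Limits AlgebraicGeometry TopologicalSpace Opposite

noncomputable section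

namespace CdLfLib

theorem hasAmpleFamily_of_isAmple {X : Scheme.{u}} {L : X.Modules} (hL : CohB1.IsAmple L) :
    MoreMor.HasAmpleFamily X :=
  ⟨hL.2.1, fun x => by
    obtain ⟨n, s, hxs, hsa⟩ := hL.2.2 x
    exact ⟨L, n + 1, s, hL.1, Nat.succ_pos _, hxs, hsa⟩⟩

theorem subsingleton_HH_of_resolution {X : Scheme.{u}} [IsLocallyNoetherian X] [CompactSpace X]
    [QuasiSeparatedSpace X] (hR : PerfAux.HasResolutionProperty X) (n : ℕ)
    (h : ∀ E : X.Modules, FlatMod.IsFinLocFree E → ∀ i : ℕ, n < i → Subsingleton (Coh.HH X E i))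
    (F : X.Modules) (hF : Coh.IsCoh F) (i : ℕ) (hi : n < i) : Subsingleton (Coh.HH X F i) := by
  obtain ⟨b, hb⟩ := QCohLib.bounded_of_isCompact (X := X) ⊤ (by simpa using isCompact_univ)
  have key : ∀ (j p : ℕ), b ≤ p + j → n < p → ∀ N₀ : X.Modules, Coh.IsCoh N₀ →
      Subsingleton (Coh.HH X N₀ p) := by
    intro j
    induction j with
    | zero =>
      intro p hp _ N₀ hM
      exact (QCohLib.subsingleton_H_iff _ p).2 (hb N₀ hM.1 p (by omega))
    | succ j ih =>
      intro p hp hp0 N₀ hM
      haveI := hM.1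
      obtain ⟨E, π, hE, hπ⟩ := hR N₀ hM.1 hM.2
      have hEc : Coh.IsCoh E := Groth.Agent.PerfLib.isCoh_of_isFinLocFree hE
      haveI := hEc.1
      have hSE : (ShortComplex.mk _ _ (kernel.condition π)).ShortExact :=
        haveI : Epi (ShortComplex.mk _ _ (kernel.condition π)).g := hπ
        { exact := ShortComplex.exact_of_f_is_kernel _ (kernelIsKernel π) }
      have hK := ih (p + 1) (by omega) (by omega) (kernel π) (QCohLib.isCoh_kernel π hEc hM.1)
      have hEp := h E hE p hp0
      refine subsingleton_of_forall_eq 0 fun c => ?_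
      obtain ⟨w, rfl⟩ := AtlasCoh.hExact₃ (QCohLib.toAbF_shortExact hSE) p c
        (@Subsingleton.elim _ hK _ _)
      exact (congrArg _ (@Subsingleton.elim _ hEp w 0)).trans (map_zero _)
  exact key b i (by omega) hi F hF

end CdLfLib
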